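import Mathlib

/-!
# Splitting a filtration on a finite projective module (helper1, for S19154)

`Base.lean`: linear algebra over a field (jumps of a filtration), base change of submodules as a
Galois connection, a Nakayama-type local-global lemma, complementary families.
-/

set_option autoImplicit false
set_option linter.style.haveILetI false
set_option linter.unusedSectionVars false
open scoped TensorProduct

namespace Groth.Agent.Lib.Helper1.FiltSplit

universe u v w


section Field

variable {Γ : Type w} [LinearOrder Γ]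
  {K : Type u} [Field K] {V : Type v} [AddCommGroup V] [Module K V] [FiniteDimensional K V]

/-- the "plus" filtration -/
def plus (W : Γ → Submodule K V) (γ : Γ) : Submodule K V := ⨆ η ∈ Set.Ioi γ, W η

theorem plus_le (W : Γ → Submodule K V) (hW : Antitone W) (γ : Γ) : plus W γ ≤ W γ :=
  iSup₂_le fun _ hη => hW (le_of_lt hη)

theorem le_plus (W : Γ → Submodule K V) {γ η : Γ} (h : γ < η) : W η ≤ plus W γ :=
  le_iSup₂_of_le η h le_rfl

/-- the chain inequality -/
theorem sum_jump_le (W : Γ → Submodule K V) (hW : Antitone W) (T : Finset Γ) :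
    ∀ U : Submodule K V, (∀ γ ∈ T, W γ ≤ U) →
      ∑ γ ∈ T, (Module.finrank K (W γ) - Module.finrank K (plus W γ)) ≤ Module.finrank K U := by
  induction T using Finset.induction_on_min with
  | empty => intro U _; simp
  | insert a T ha ih =>
    intro U hU
    have hna : a ∉ T := fun h => lt_irrefl _ (ha a h)
    rw [Finset.sum_insert hna]
    have h1 := ih (plus W a) (fun γ hγ => le_plus W (ha γ hγ))
    have h2 : Module.finrank K (plus W a) ≤ Module.finrank K (W a) :=
      Submodule.finrank_mono (plus_le W hW a)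
    have h3 : Module.finrank K (W a) ≤ Module.finrank K U :=
      Submodule.finrank_mono (hU a (Finset.mem_insert_self _ _))
    omega

theorem iSup_eq_top_of_finrank_eq (Fx E : Γ → Submodule K V) (hF : Antitone Fx)
    (hE : ∀ γ, E γ ≤ Fx γ) (hFE : ∀ γ, Fx γ ≤ E γ ⊔ plus Fx γ)
    (hdim : Module.finrank K V
      = ∑ᶠ γ, (Module.finrank K (Fx γ) - Module.finrank K (plus Fx γ))) :
    ⨆ γ, E γ = ⊤ := by
  classical
  set V' : Submodule K V := ⨆ γ, E γ with hV'
  set F' : Γ → Submodule K V := fun γ => Fx γ ⊓ V' with hF'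
  have hF'anti : Antitone F' := fun a b hab => inf_le_inf_right _ (hF hab)
  have hEF' : ∀ γ, E γ ≤ F' γ := fun γ => le_inf (hE γ) (le_iSup E γ)
  have hjump : ∀ γ, Module.finrank K (Fx γ) - Module.finrank K (plus Fx γ)
      ≤ Module.finrank K (F' γ) - Module.finrank K (plus F' γ) := by
    intro γ
    have e1 : Fx γ = F' γ ⊔ plus Fx γ := by
      apply le_antisymm
      · exact (hFE γ).trans (sup_le_sup_right (hEF' γ) _)
      · exact sup_le inf_le_left (plus_le Fx hF γ)
    have e2 := Submodule.finrank_sup_add_finrank_inf_eq (F' γ) (plus Fx γ)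
    rw [← e1] at e2
    have e3 : plus F' γ ≤ F' γ ⊓ plus Fx γ := by
      refine le_inf (plus_le F' hF'anti γ) ?_
      exact iSup₂_le fun η hη => inf_le_left.trans (le_plus Fx hη)
    have e4 := Submodule.finrank_mono e3
    have e5 : Module.finrank K (plus Fx γ) ≤ Module.finrank K (Fx γ) :=
      Submodule.finrank_mono (plus_le Fx hF γ)
    have e6 : Module.finrank K (↥(F' γ ⊓ plus Fx γ)) ≤ Module.finrank K (F' γ) :=
      Submodule.finrank_mono inf_le_left
    omega
  by_cases hfin : (Function.support fun γ =>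
      (Module.finrank K (Fx γ) - Module.finrank K (plus Fx γ))).Finite
  · rw [finsum_eq_sum_of_support_subset (s := hfin.toFinset) _ (by simp)] at hdim
    have h1 : ∑ γ ∈ hfin.toFinset, (Module.finrank K (Fx γ) - Module.finrank K (plus Fx γ))
        ≤ ∑ γ ∈ hfin.toFinset, (Module.finrank K (F' γ) - Module.finrank K (plus F' γ)) :=
      Finset.sum_le_sum fun γ _ => hjump γ
    have h2 := sum_jump_le F' hF'anti hfin.toFinset V' (fun γ _ => inf_le_right)
    have h3 : Module.finrank K V ≤ Module.finrank K V' := by omega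
    exact Submodule.eq_top_of_finrank_eq (le_antisymm (Submodule.finrank_le _) h3)
  · rw [finsum_of_infinite_support hfin] at hdim
    have : Subsingleton V := Module.finrank_zero_iff.mp hdim
    exact Subsingleton.elim _ _

end Field



section BaseChange

variable {R : Type u} [CommRing R] (A : Type*) [CommRing A] [Algebra R A]
  {M : Type v} [AddCommGroup M] [Module R M]

theorem baseChange_le_iff (p : Submodule R M) (Q : Submodule A (A ⊗[R] M)) :
    p.baseChange A ≤ Q ↔ p ≤ (Q.restrictScalars R).comap (TensorProduct.mk R A M 1) := by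
  constructor
  · intro h m hm
    exact h (Submodule.tmul_mem_baseChange_of_mem 1 hm)
  · intro h
    rw [Submodule.baseChange_eq_span, Submodule.span_le]
    rintro _ ⟨m, hm, rfl⟩
    exact h hm

theorem gc_baseChange : GaloisConnection (fun p : Submodule R M => p.baseChange A)
    (fun Q : Submodule A (A ⊗[R] M) =>
      (Q.restrictScalars R).comap (TensorProduct.mk R A M 1)) :=
  fun p Q => baseChange_le_iff A p Q

theorem baseChange_iSup {ι : Sort*} (p : ι → Submodule R M) :
    (⨆ i, p i).baseChange A = ⨆ i, (p i).baseChange A :=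
  (gc_baseChange A).l_iSup

theorem baseChange_sup (p q : Submodule R M) :
    (p ⊔ q).baseChange A = p.baseChange A ⊔ q.baseChange A :=
  (gc_baseChange A).l_sup

theorem baseChange_iSup₂ {ι : Sort*} {κ : ι → Sort*} (p : ∀ i, κ i → Submodule R M) :
    (⨆ i, ⨆ j, p i j).baseChange A = ⨆ i, ⨆ j, (p i j).baseChange A :=
  (gc_baseChange A).l_iSup₂

end BaseChange

section Nak

variable {R : Type u} [CommRing R] {M : Type v} [AddCommGroup M] [Module R M] [Module.Finite R M]

theorem eq_top_of_forall_baseChange_eq_top (N : Submodule R M)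
    (h : ∀ p : PrimeSpectrum R, N.baseChange p.asIdeal.ResidueField = ⊤) : N = ⊤ := by
  rw [← Submodule.Quotient.subsingleton_iff]
  rw [← Module.support_eq_empty_iff (R := R), Set.eq_empty_iff_forall_notMem]
  intro p hp
  rw [Module.mem_support_iff_nontrivial_residueField_tensorProduct] at hp
  have hsurj : Function.Surjective (N.mkQ.baseChange p.asIdeal.ResidueField) := by
    rw [LinearMap.baseChange_eq_ltensor]
    exact LinearMap.lTensor_surjective _ N.mkQ_surjective
  have hzero : ∀ x, N.mkQ.baseChange p.asIdeal.ResidueField x = 0 := by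
    intro x
    have hx : x ∈ N.baseChange p.asIdeal.ResidueField := by rw [h p]; trivial
    obtain ⟨y, rfl⟩ := hx
    rw [← LinearMap.comp_apply, ← LinearMap.baseChange_comp]
    have : N.mkQ ∘ₗ N.subtype = 0 := by
      ext z
      simp
    rw [this, LinearMap.baseChange_zero]
    rfl
  obtain ⟨a, b, hab⟩ := hp
  obtain ⟨a', rfl⟩ := hsurj a
  obtain ⟨b', rfl⟩ := hsurj b
  exact hab (by rw [hzero, hzero])

end Nak



section Split

variable {Γ : Type w} [LinearOrder Γ]
  {R : Type u} [CommRing R] {M : Type v} [AddCommGroup M] [Module R M]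

/-- the plus filtration -/
def mplus (F : Γ → Submodule R M) (γ : Γ) : Submodule R M := ⨆ η ∈ Set.Ioi γ, F η

theorem mplus_le (F : Γ → Submodule R M) (hF : Antitone F) (γ : Γ) : mplus F γ ≤ F γ :=
  iSup₂_le fun _ hη => hF (le_of_lt hη)

theorem le_mplus (F : Γ → Submodule R M) {γ η : Γ} (h : γ < η) : F η ≤ mplus F γ :=
  le_iSup₂_of_le η h le_rfl

/-- `G γ` is a complement of `F⁺ γ` in `F γ`. -/
structure IsComplFam (F G : Γ → Submodule R M) : Prop where
  le : ∀ γ, G γ ≤ F γ
  sup : ∀ γ, F γ ≤ G γ ⊔ mplus F γ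
  inf : ∀ γ, G γ ⊓ mplus F γ = ⊥

variable {F G : Γ → Submodule R M}

theorem IsComplFam.eq_zero_of_sum_mem (hc : IsComplFam F G) (S : Finset Γ) :
    ∀ g : Γ → M, (∀ η ∈ S, g η ∈ G η) → ∀ γ, (∑ η ∈ S, g η ∈ F γ) →
      ∀ η ∈ S, η < γ → g η = 0 := by
  induction S using Finset.induction_on_min with
  | empty => intro g _ γ _ η hη; simp at hη
  | insert a T ha ih =>
    intro g hg γ hsum η hη hηγ
    have hna : a ∉ T := fun h => lt_irrefl _ (ha a h)
    rw [Finset.sum_insert hna] at hsum
    have hT : ∑ η ∈ T, g η ∈ mplus F a :=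
      Submodule.sum_mem _ fun η hη' =>
        le_mplus F (ha η hη') (hc.le η (hg η (Finset.mem_insert_of_mem hη')))
    by_cases haγ : a < γ
    · have h1 : g a ∈ mplus F a := by
        have : g a = (g a + ∑ η ∈ T, g η) - ∑ η ∈ T, g η := by abel
        rw [this]
        exact Submodule.sub_mem _ (le_mplus F haγ hsum) hT
      have h2 : g a ∈ G a ⊓ mplus F a := ⟨hg a (Finset.mem_insert_self _ _), h1⟩
      rw [hc.inf a] at h2
      have hga : g a = 0 := (Submodule.mem_bot R).1 h2
      rcases Finset.mem_insert.1 hη with rfl | hηT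
      · exact hga
      · rw [hga, zero_add] at hsum
        exact ih g (fun η' hη' => hg η' (Finset.mem_insert_of_mem hη')) γ hsum η hηT hηγ
    · exfalso
      rcases Finset.mem_insert.1 hη with rfl | hηT
      · exact haγ hηγ
      · exact haγ ((ha η hηT).trans hηγ)

theorem IsComplFam.iSupIndep [NoMaxOrder Γ] (hc : IsComplFam F G) :
    iSupIndep G := by
  classical
  apply iSupIndep_of_dfinsupp_lsum_injective
  rw [injective_iff_map_eq_zero]
  intro v hv
  ext η
  by_cases hη : η ∈ v.support
  · obtain ⟨γ, hγ⟩ := exists_gt η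
    have hsum : ∑ i ∈ v.support, ((v i : M)) ∈ F γ := by
      have : ∑ i ∈ v.support, ((v i : M)) = DFinsupp.lsum ℕ (fun i => (G i).subtype) v := by
        rw [DFinsupp.lsum_apply_apply, DFinsupp.sumAddHom_apply]
        rfl
      rw [this, hv]
      exact zero_mem _
    have := hc.eq_zero_of_sum_mem v.support (fun i => (v i : M)) (fun i _ => (v i).2) γ hsum η
      hη hγ
    simpa using this
  · simpa using hη

theorem IsComplFam.le_iSup_Ici (hc : IsComplFam F G) (htop : ⨆ γ, G γ = ⊤)
    (γ : Γ) : F γ ≤ ⨆ η ∈ Set.Ici γ, G η := by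
  classical
  intro x hx
  have hx' : x ∈ ⨆ γ, G γ := by rw [htop]; trivial
  obtain ⟨v, rfl⟩ := (Submodule.mem_iSup_iff_exists_dfinsupp G x).1 hx'
  have hsumeq : DFinsupp.lsum ℕ (fun i => (G i).subtype) v = ∑ i ∈ v.support, ((v i : M)) := by
    rw [DFinsupp.lsum_apply_apply, DFinsupp.sumAddHom_apply]
    rfl
  rw [hsumeq] at hx ⊢
  have hz := hc.eq_zero_of_sum_mem v.support (fun i => (v i : M)) (fun i _ => (v i).2) γ hx
  refine Submodule.sum_mem _ fun η hη => ?_
  by_cases hηγ : η < γ
  · rw [hz η hη hηγ]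
    exact zero_mem _
  · exact Submodule.mem_iSup_of_mem η (Submodule.mem_iSup_of_mem (not_lt.1 hηγ) (v η).2)

theorem IsComplFam.iSup_Ici_le (hc : IsComplFam F G) (hF : Antitone F) (γ : Γ) :
    ⨆ η ∈ Set.Ici γ, G η ≤ F γ :=
  iSup₂_le fun η hη => (hc.le η).trans (hF hη)

/-- existence of a complementary family when the graded pieces are projective. -/
theorem exists_isComplFam (F : Γ → Submodule R M)
    (hproj : ∀ γ, Module.Projective R (↥(F γ) ⧸ Submodule.comap (F γ).subtype (mplus F γ))) :
    ∃ G : Γ → Submodule R M, IsComplFam F G := by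
  have hsec : ∀ γ, ∃ σ : (↥(F γ) ⧸ Submodule.comap (F γ).subtype (mplus F γ)) →ₗ[R] ↥(F γ),
      (Submodule.comap (F γ).subtype (mplus F γ)).mkQ ∘ₗ σ = LinearMap.id := fun γ =>
    Module.projective_lifting_property _ _ (Submodule.mkQ_surjective _)
  choose σ hσ using hsec
  refine ⟨fun γ => (LinearMap.range (σ γ)).map (F γ).subtype, ?_, ?_, ?_⟩
  · intro γ x hx
    obtain ⟨y, -, rfl⟩ := hx
    exact y.2
  · intro γ x hx
    set x' : ↥(F γ) := ⟨x, hx⟩
    set y : ↥(F γ) := σ γ ((Submodule.comap (F γ).subtype (mplus F γ)).mkQ x')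
    have hker : x' - y ∈ Submodule.comap (F γ).subtype (mplus F γ) := by
      rw [← Submodule.ker_mkQ (Submodule.comap (F γ).subtype (mplus F γ)), LinearMap.mem_ker,
        map_sub, sub_eq_zero]
      have := LinearMap.congr_fun (hσ γ) ((Submodule.comap (F γ).subtype (mplus F γ)).mkQ x')
      exact this.symm
    have hx_eq : x = (y : M) + ((x' - y : ↥(F γ)) : M) := by
      simp [x']
    rw [hx_eq]
    exact Submodule.add_mem_sup ⟨y, ⟨_, rfl⟩, rfl⟩ hker
  · intro γ
    rw [eq_bot_iff]
    rintro x ⟨⟨y, ⟨q, rfl⟩, rfl⟩, hx2⟩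
    have hker : σ γ q ∈ Submodule.comap (F γ).subtype (mplus F γ) := hx2
    have hker' : (Submodule.comap (F γ).subtype (mplus F γ)).mkQ (σ γ q) = 0 :=
      (Submodule.Quotient.mk_eq_zero _).2 hker
    have := LinearMap.congr_fun (hσ γ) q
    rw [LinearMap.comp_apply, hker'] at this
    rw [Submodule.mem_bot]
    simp only [LinearMap.id_apply] at this
    rw [← this]
    simp

end Split

end Groth.Agent.Lib.Helper1.FiltSplit
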