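import Groth.Agent.Lib.Helper1.FiltSplit.Base
import Groth.Agent.Lib.Helper1.FiltTensor

/-!
# Splitting a filtration on a finite projective module: both directions (helper1, for S19154)
-/

set_option autoImplicit false
set_option linter.style.haveILetI false
set_option linter.unusedSectionVars false
open scoped TensorProduct

namespace Groth.Agent.Lib.Helper1.FiltSplit

open Groth.Agent.Lib.Helper1.FiltTensor (proj proj_mem proj_of_mem proj_of_mem_ne finite_support)

universe u v w


section Converse

variable {Γ : Type w} [LinearOrder Γ] [NoMaxOrder Γ]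
  {R : Type u} [CommRing R] {M : Type v} [AddCommGroup M] [Module R M] [Module.Finite R M]

theorem split_of_fibre (F : Γ → Submodule R M) (hF : Antitone F)
    (hproj : ∀ γ, Module.Projective R (↥(F γ) ⧸ Submodule.comap (F γ).subtype (mplus F γ)))
    (hfib : ∀ p : PrimeSpectrum R,
      Module.finrank p.asIdeal.ResidueField (p.asIdeal.ResidueField ⊗[R] M) =
        ∑ᶠ γ, (Module.finrank p.asIdeal.ResidueField
            ↥((F γ).baseChange p.asIdeal.ResidueField) -
          Module.finrank p.asIdeal.ResidueField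
            ↥(⨆ η ∈ Set.Ioi γ, (F η).baseChange p.asIdeal.ResidueField))) :
    ∃ G : Γ → Submodule R M, DirectSum.IsInternal G ∧ ∀ γ, F γ = ⨆ η ∈ Set.Ici γ, G η := by
  classical
  obtain ⟨G, hc⟩ := exists_isComplFam F hproj
  have htop : ⨆ γ, G γ = ⊤ := by
    apply eq_top_of_forall_baseChange_eq_top
    intro p
    rw [baseChange_iSup]
    refine iSup_eq_top_of_finrank_eq (fun γ => (F γ).baseChange p.asIdeal.ResidueField)
      (fun γ => (G γ).baseChange p.asIdeal.ResidueField)
      (fun a b hab => Submodule.baseChange_mono _ (hF hab))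
      (fun γ => Submodule.baseChange_mono _ (hc.le γ)) ?_ (hfib p)
    intro γ
    refine (Submodule.baseChange_mono _ (hc.sup γ)).trans ?_
    rw [baseChange_sup]
    refine sup_le_sup_left ?_ _
    rw [mplus, baseChange_iSup₂]
    exact le_rfl
  refine ⟨G, DirectSum.isInternal_submodule_of_iSupIndep_of_iSup_eq_top hc.iSupIndep htop, ?_⟩
  intro γ
  exact le_antisymm (hc.le_iSup_Ici htop γ) (hc.iSup_Ici_le hF γ)

end Converse



section Equiv

variable {Γ : Type w} [LinearOrder Γ]
  {R : Type u} [CommRing R] {M : Type v} [AddCommGroup M] [Module R M]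
  {F G : Γ → Submodule R M}

/-- the graded piece is isomorphic to the complement -/
noncomputable def IsComplFam.equiv (hc : IsComplFam F G) (γ : Γ) :
    ↥(G γ) ≃ₗ[R] (↥(F γ) ⧸ Submodule.comap (F γ).subtype (mplus F γ)) :=
  LinearEquiv.ofBijective
    ((Submodule.comap (F γ).subtype (mplus F γ)).mkQ ∘ₗ Submodule.inclusion (hc.le γ))
    (by
      constructor
      · rw [← LinearMap.ker_eq_bot, eq_bot_iff]
        intro x hx
        rw [LinearMap.mem_ker, LinearMap.comp_apply, Submodule.mkQ_apply,
          Submodule.Quotient.mk_eq_zero] at hx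
        have h2 : (x : M) ∈ G γ ⊓ mplus F γ := ⟨x.2, hx⟩
        rw [hc.inf γ, Submodule.mem_bot] at h2
        rw [Submodule.mem_bot]
        exact Subtype.ext h2
      · intro q
        obtain ⟨y, rfl⟩ := Submodule.mkQ_surjective _ q
        obtain ⟨g, hg, z, hz, hgz⟩ := Submodule.mem_sup.1 (hc.sup γ y.2)
        refine ⟨⟨g, hg⟩, ?_⟩
        rw [LinearMap.comp_apply, Submodule.mkQ_apply, Submodule.mkQ_apply,
          Submodule.Quotient.eq]
        show ((Submodule.inclusion (hc.le γ) ⟨g, hg⟩ - y : ↥(F γ)) : M) ∈ mplus F γ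
        have : ((Submodule.inclusion (hc.le γ) ⟨g, hg⟩ - y : ↥(F γ)) : M) = -z := by
          rw [Submodule.coe_sub, ← hgz]
          simp
        rw [this]
        exact Submodule.neg_mem _ hz)

end Equiv

section Forward

variable {Γ : Type w} [LinearOrder Γ]
  {R : Type u} [CommRing R] {M : Type v} [AddCommGroup M] [Module R M]
  {F G : Γ → Submodule R M}

theorem isComplFam_of_isInternal (hG : DirectSum.IsInternal G)
    (hFG : ∀ γ, F γ = ⨆ η ∈ Set.Ici γ, G η) : IsComplFam F G := by
  classical
  refine ⟨?_, ?_, ?_⟩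
  · intro γ
    rw [hFG γ]
    exact le_iSup₂_of_le γ (Set.mem_Ici.2 le_rfl) le_rfl
  · intro γ
    rw [hFG γ]
    refine iSup₂_le fun η hη => ?_
    rcases eq_or_lt_of_le (Set.mem_Ici.1 hη) with rfl | hlt
    · exact le_sup_left
    · refine le_trans ?_ le_sup_right
      refine le_trans ?_ (le_mplus F hlt)
      rw [hFG η]
      exact le_iSup₂_of_le η (Set.mem_Ici.2 le_rfl) le_rfl
  · intro γ
    rw [eq_bot_iff]
    rintro x ⟨hx1, hx2⟩
    have hker : mplus F γ ≤ LinearMap.ker (proj G hG γ) := by
      refine iSup₂_le fun η hη => ?_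
      rw [hFG η]
      refine iSup₂_le fun η' hη' => ?_
      intro y hy
      rw [LinearMap.mem_ker]
      exact proj_of_mem_ne G hG hy (ne_of_gt (lt_of_lt_of_le hη hη'))
    have h0 : proj G hG γ x = 0 := hker hx2
    rw [proj_of_mem G hG hx1] at h0
    rw [Submodule.mem_bot]
    exact h0

theorem finite_projective_of_isInternal [Module.Finite R M] [Module.Projective R M]
    (hG : DirectSum.IsInternal G) (γ : Γ) :
    Module.Finite R ↥(G γ) ∧ Module.Projective R ↥(G γ) := by
  classical
  set s : M →ₗ[R] ↥(G γ) := (proj G hG γ).codRestrict (G γ) (proj_mem G hG γ) with hs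
  have hsi : s ∘ₗ (G γ).subtype = LinearMap.id := by
    ext x
    simp only [LinearMap.comp_apply, Submodule.subtype_apply, LinearMap.id_apply, hs,
      LinearMap.codRestrict_apply]
    exact proj_of_mem G hG x.2
  have hsurj : Function.Surjective s := fun x => ⟨x, LinearMap.congr_fun hsi x⟩
  exact ⟨Module.Finite.of_surjective s hsurj, Module.Projective.of_split _ _ hsi⟩

end Forward



section Indep

variable {Γ : Type w} {K : Type u} [Field K] {V : Type v} [AddCommGroup V] [Module K V]
  [FiniteDimensional K V]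

theorem finrank_biSup_of_iSupIndep [DecidableEq Γ] (E : Γ → Submodule K V) (hE : iSupIndep E)
    (T : Finset Γ) :
    Module.finrank K ↥(⨆ γ ∈ T, E γ) = ∑ γ ∈ T, Module.finrank K ↥(E γ) := by
  induction T using Finset.induction_on with
  | empty => simp
  | insert a T ha ih =>
    rw [Finset.iSup_insert, Finset.sum_insert ha, ← ih]
    have hd : Disjoint (E a) (⨆ γ ∈ T, E γ) :=
      hE.disjoint_biSup (y := (T : Set Γ)) (by simpa using ha)
    have h1 := Submodule.finrank_sup_add_finrank_inf_eq (E a) (⨆ γ ∈ T, E γ)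
    rw [hd.eq_bot, finrank_bot, add_zero] at h1
    exact h1

end Indep

section Forward

variable {Γ : Type w} [LinearOrder Γ]
  {R : Type u} [CommRing R] {M : Type v} [AddCommGroup M] [Module R M] [Module.Finite R M]
  {F G : Γ → Submodule R M}

theorem finrank_fibre_of_isInternal (hG : DirectSum.IsInternal G)
    (hFG : ∀ γ, F γ = ⨆ η ∈ Set.Ici γ, G η) (A : Type*) [Field A] [Algebra R A] :
    Module.finrank A (A ⊗[R] M) =
      ∑ᶠ γ, (Module.finrank A ↥((F γ).baseChange A) -
        Module.finrank A ↥(⨆ η ∈ Set.Ioi γ, (F η).baseChange A)) := by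
  classical
  set E : Γ → Submodule A (A ⊗[R] M) := fun η => (G η).baseChange A with hE
  set PK : Γ → (A ⊗[R] M →ₗ[A] A ⊗[R] M) := fun η => (proj G hG η).baseChange A with hPK
  have hcomp_same : ∀ η, proj G hG η ∘ₗ (G η).subtype = (G η).subtype := by
    intro η
    ext z
    exact proj_of_mem G hG z.2
  have hcomp_ne : ∀ η η', η' ≠ η → proj G hG η ∘ₗ (G η').subtype = 0 := by
    intro η η' hne
    ext z
    exact proj_of_mem_ne G hG z.2 hne
  have hPK_same : ∀ η x, x ∈ E η → PK η x = x := by
    rintro η _ ⟨y, rfl⟩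
    show (proj G hG η).baseChange A (((G η).subtype.baseChange A) y) = _
    rw [← LinearMap.comp_apply, ← LinearMap.baseChange_comp, hcomp_same]
  have hPK_ne : ∀ η η' x, x ∈ E η' → η' ≠ η → PK η x = 0 := by
    rintro η η' _ ⟨y, rfl⟩ hne
    show (proj G hG η).baseChange A (((G η').subtype.baseChange A) y) = _
    rw [← LinearMap.comp_apply, ← LinearMap.baseChange_comp, hcomp_ne η η' hne,
      LinearMap.baseChange_zero]
    rfl
  have hind : iSupIndep E := by
    rw [iSupIndep_def]
    intro η
    rw [Submodule.disjoint_def]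
    intro x hx1 hx2
    have hker : (⨆ (j) (_ : j ≠ η), E j) ≤ LinearMap.ker (PK η) :=
      iSup₂_le fun j hj y hy => hPK_ne η j y hy hj
    rw [← hPK_same η x hx1]
    exact hker hx2
  have hFx : ∀ γ, (F γ).baseChange A = ⨆ η ∈ Set.Ici γ, E η := by
    intro γ
    rw [hFG γ, baseChange_iSup₂]
  have hFp : ∀ γ, (⨆ η ∈ Set.Ioi γ, (F η).baseChange A) = ⨆ η ∈ Set.Ioi γ, E η := by
    intro γ
    apply le_antisymm
    · refine iSup₂_le fun η hη => ?_
      rw [hFx η]
      exact iSup₂_le fun η' hη' => le_iSup₂_of_le η' (lt_of_lt_of_le hη hη') le_rfl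
    · refine iSup₂_le fun η hη => le_iSup₂_of_le η hη ?_
      rw [hFx η]
      exact le_iSup₂_of_le η (Set.mem_Ici.2 le_rfl) le_rfl
  have hjump : ∀ γ, Module.finrank A ↥((F γ).baseChange A) -
      Module.finrank A ↥(⨆ η ∈ Set.Ioi γ, (F η).baseChange A) = Module.finrank A ↥(E γ) := by
    intro γ
    rw [hFp γ, hFx γ]
    have hsplit : (⨆ η ∈ Set.Ici γ, E η) = E γ ⊔ ⨆ η ∈ Set.Ioi γ, E η := by
      apply le_antisymm
      · refine iSup₂_le fun η hη => ?_
        rcases eq_or_lt_of_le (Set.mem_Ici.1 hη) with rfl | hlt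
        · exact le_sup_left
        · exact le_trans (le_iSup₂_of_le η hlt le_rfl) le_sup_right
      · refine sup_le (le_iSup₂_of_le γ (Set.mem_Ici.2 le_rfl) le_rfl) ?_
        exact iSup₂_le fun η hη => le_iSup₂_of_le η (le_of_lt hη) le_rfl
    rw [hsplit]
    have hd : Disjoint (E γ) (⨆ η ∈ Set.Ioi γ, E η) :=
      hind.disjoint_biSup (y := Set.Ioi γ) (by simp)
    have h1 := Submodule.finrank_sup_add_finrank_inf_eq (E γ) (⨆ η ∈ Set.Ioi γ, E η)
    rw [hd.eq_bot, finrank_bot, add_zero] at h1
    omega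
  simp_rw [hjump]
  -- the total sum
  have hfin := finite_support G hG
  have hsupp : (Function.support fun γ => Module.finrank A ↥(E γ)) ⊆ hfin.toFinset := by
    intro γ hγ
    rw [Set.Finite.coe_toFinset]
    intro hbot
    apply hγ
    show Module.finrank A ↥((G γ).baseChange A) = 0
    have hb : G γ = ⊥ := hbot
    rw [hb, Submodule.baseChange_bot, finrank_bot]
  rw [finsum_eq_sum_of_support_subset _ hsupp, ← finrank_biSup_of_iSupIndep E hind]
  have htop : (⨆ γ ∈ hfin.toFinset, E γ) = ⊤ := by
    have h1 : (⨆ γ, E γ) = ⊤ := by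
      rw [hE, ← baseChange_iSup, hG.submodule_iSup_eq_top, Submodule.baseChange_top]
    rw [← h1]
    apply le_antisymm (iSup₂_le fun γ _ => le_iSup E γ)
    refine iSup_le fun γ => ?_
    by_cases hγ : G γ = ⊥
    · show (G γ).baseChange A ≤ _
      rw [hγ, Submodule.baseChange_bot]
      exact bot_le
    · exact le_iSup₂_of_le γ (by rw [Set.Finite.mem_toFinset]; exact hγ) le_rfl
  rw [htop, finrank_top]

end Forward

end Groth.Agent.Lib.Helper1.FiltSplit
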